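import Groth.Agent.H8Props.FinLocFree.Sheaf
import Groth.Prelude.Def_Coh

/-!
# Finite type / presentation of `tilde M`; ranks of fibres of stalks
-/

set_option autoImplicit false

universe u

open CategoryTheory Limits AlgebraicGeometry TopologicalSpace Opposite TensorProduct

namespace Groth.Agent.H8Props.FinLocFree

open H29Fitt

section Tilde

variable {R : CommRingCat.{u}} (M : ModuleCat.{u} R)

/-- `M → Γ(tilde M, ⊤)`. -/
noncomputable def toTop : M →+ Γ(tilde M, (⊤ : (Spec R).Opens)) :=
  (tilde.toOpen M ⊤).hom.toAddMonoidHom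

theorem bijective_toTop : Function.Bijective (toTop M) :=
  ConcreteCategory.bijective_of_isIso (tilde.toOpen M ⊤)

theorem toTop_smul (r : R) (m : M) :
    toTop M (r • m) = (Scheme.ΓSpecIso R).inv r • toTop M m := by
  have h : toTop M (r • m) = r • toTop M m := (tilde.toOpen M ⊤).hom.map_smul r m
  rw [h, Scheme.Modules.smul_Spec_def]
  have hid : (⊤ : (Spec R).Opens).leTop.op = 𝟙 _ := Subsingleton.elim _ _
  rw [hid, CategoryTheory.Functor.map_id]
  rfl

/-- The inverse of `toTop`. -/
noncomputable def ofTop : Γ(tilde M, (⊤ : (Spec R).Opens)) →+ M :=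
  (AddEquiv.ofBijective (toTop M) (bijective_toTop M)).symm.toAddMonoidHom

theorem ofTop_smul (a : Γ(Spec R, ⊤)) (m : Γ(tilde M, (⊤ : (Spec R).Opens))) :
    ofTop M (a • m) = (Scheme.ΓSpecIso R).hom a • ofTop M m := by
  apply (bijective_toTop M).1
  rw [toTop_smul]
  have h : ∀ n, toTop M (ofTop M n) = n :=
    fun n => (AddEquiv.ofBijective (toTop M) (bijective_toTop M)).apply_symm_apply n
  rw [h, h]
  exact congrArg (· • m) (congr($((Scheme.ΓSpecIso R).hom_inv_id) a)).symm

theorem finite_top_iff : Module.Finite Γ(Spec R, ⊤) Γ(tilde M, (⊤ : (Spec R).Opens)) ↔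
    Module.Finite R M := by
  refine ⟨fun h => ?_, fun h => ?_⟩
  · exact H10Coh.finite_of_semilinear (Scheme.ΓSpecIso R).hom.hom (ofTop M) (ofTop_smul M)
      (AddEquiv.ofBijective (toTop M) (bijective_toTop M)).symm.surjective
  · exact H10Coh.finite_of_semilinear (Scheme.ΓSpecIso R).inv.hom (toTop M) (toTop_smul M)
      (bijective_toTop M).2

theorem finitePresentation_top_iff :
    Module.FinitePresentation Γ(Spec R, ⊤) Γ(tilde M, (⊤ : (Spec R).Opens)) ↔
      Module.FinitePresentation R M := by
  refine ⟨fun h => ?_, fun h => ?_⟩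
  · exact finitePresentation_of_semilinear (Scheme.ΓSpecIso R).hom.hom
      (ConcreteCategory.bijective_of_isIso (Scheme.ΓSpecIso R).hom) (ofTop M) (ofTop_smul M)
      (AddEquiv.ofBijective (toTop M) (bijective_toTop M)).symm.bijective
  · exact finitePresentation_of_semilinear (Scheme.ΓSpecIso R).inv.hom
      (ConcreteCategory.bijective_of_isIso (Scheme.ΓSpecIso R).inv) (toTop M) (toTop_smul M)
      (bijective_toTop M)

theorem flat_top_iff :
    Module.Flat Γ(Spec R, ⊤) Γ(tilde M, (⊤ : (Spec R).Opens)) ↔ Module.Flat R M := by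
  letI := (Scheme.ΓSpecIso R).inv.hom.toAlgebra
  letI : Module R Γ(tilde M, (⊤ : (Spec R).Opens)) := Module.compHom _ (Scheme.ΓSpecIso R).inv.hom
  haveI : IsScalarTower R Γ(Spec R, ⊤) Γ(tilde M, (⊤ : (Spec R).Opens)) :=
    .of_algebraMap_smul fun _ _ => rfl
  haveI : IsLocalization (⊥ : Submonoid R) Γ(Spec R, ⊤) := by
    have hb := ConcreteCategory.bijective_of_isIso (Scheme.ΓSpecIso R).inv
    refine ⟨fun y => ?_, fun z => ?_, fun {a b} h => ?_⟩
    · rw [show (y : R) = 1 from y.2, map_one]; exact isUnit_one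
    · obtain ⟨a, rfl⟩ := hb.2 z
      exact ⟨(a, 1), by simp [RingHom.algebraMap_toAlgebra]⟩
    · exact ⟨1, by rw [hb.1 h]⟩
  let e : M ≃ₗ[R] Γ(tilde M, (⊤ : (Spec R).Opens)) :=
    { AddEquiv.ofBijective (toTop M) (bijective_toTop M) with map_smul' := toTop_smul M }
  rw [Module.flat_iff_of_isLocalization Γ(Spec R, ⊤) (⊥ : Submonoid R)]
  exact (Module.Flat.equiv_iff e).symm

end Tilde

/-- The rank of the fibre at `q` can be computed in any field with kernel `q`. -/
theorem finrank_eq_residueField {R : Type u} [CommRing R] {M : Type u} [AddCommGroup M] [Module R M]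
    [Module.Finite R M] (q : Ideal R) [q.IsPrime] (K : Type u) [Field K] [Algebra R K]
    (hK : RingHom.ker (algebraMap R K) = q) :
    Module.finrank K (K ⊗[R] M) = Module.finrank q.ResidueField (q.ResidueField ⊗[R] M) := by
  have key : ∀ k, Module.finrank K (K ⊗[R] M) ≤ k ↔
      Module.finrank q.ResidueField (q.ResidueField ⊗[R] M) ≤ k := fun k => by
    rw [← not_le_prime_iff_finrank_le]
    have h1 : (Fitt.ideal R M k).map (algebraMap R K) = ⊥ ↔ Fitt.ideal R M k ≤ q := by
      rw [Ideal.map_eq_bot_iff_le_ker, hK]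
    rw [← h1, ← ideal_baseChange k, ideal_field]
    split_ifs with h <;> simp [h]
  exact le_antisymm ((key _).2 le_rfl) ((key _).1 le_rfl)

/-- Fibre rank after a base change. -/
theorem finrank_baseChange_fibre {R A : Type u} [CommRing R] [CommRing A] [Algebra R A]
    {M N : Type u} [AddCommGroup M] [Module R M] [AddCommGroup N] [Module R N] [Module A N]
    [IsScalarTower R A N] {g : M →ₗ[R] N} (hg : IsBaseChange A g)
    (K : Type u) [Field K] [Algebra R K] [Algebra A K] [IsScalarTower R A K] :
    Module.finrank K (K ⊗[A] N) = Module.finrank K (K ⊗[R] M) := by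
  have e1 : K ⊗[A] N ≃ₗ[K] K ⊗[A] (A ⊗[R] M) :=
    AlgebraTensorModule.congr (LinearEquiv.refl K K) hg.equiv.symm
  exact (e1 ≪≫ₗ AlgebraTensorModule.cancelBaseChange R A K K M).finrank_eq

/-- The fibre rank of a stalk computed on affine sections. -/
theorem finrank_stalk_fibre {X : Scheme.{u}} (M : X.Modules) (hM : Coh.IsQCoh M) (hft : CohB1.IsFT M)
    {U : X.Opens} (hU : IsAffineOpen U) (x : U) :
    Module.finrank (IsLocalRing.ResidueField (X.presheaf.stalk x.1))
        (TensorProduct (X.presheaf.stalk x.1) (IsLocalRing.ResidueField (X.presheaf.stalk x.1))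
          (M.presheaf.stalk x.1)) =
      Module.finrank (hU.primeIdealOf x).asIdeal.ResidueField
        ((hU.primeIdealOf x).asIdeal.ResidueField ⊗[Γ(X, U)] Γ(M, U)) := by
  letI := TopCat.Presheaf.algebra_section_stalk X.presheaf x
  letI := Module.compHom (M.presheaf.stalk x.1) (algebraMap Γ(X, U) (X.presheaf.stalk x.1))
  haveI : IsScalarTower Γ(X, U) (X.presheaf.stalk x.1) (M.presheaf.stalk x.1) :=
    .of_algebraMap_smul fun _ _ => rfl
  haveI := isLocalizedModule_germLin M hM hU x
  haveI : IsLocalization.AtPrime (X.presheaf.stalk x.1) (hU.primeIdealOf x).asIdeal :=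
    hU.isLocalization_stalk x
  haveI := H29Fitt.finite_sections M hM hft ⟨U, hU⟩
  have hK : RingHom.ker (algebraMap Γ(X, U) (IsLocalRing.ResidueField (X.presheaf.stalk x.1))) =
      (hU.primeIdealOf x).asIdeal := by
    rw [IsScalarTower.algebraMap_eq Γ(X, U) (X.presheaf.stalk x.1)
      (IsLocalRing.ResidueField (X.presheaf.stalk x.1)), ← RingHom.comap_ker,
      IsLocalRing.ResidueField.algebraMap_eq, IsLocalRing.ker_residue]
    exact IsLocalization.AtPrime.under_maximalIdeal _ _
  rw [finrank_baseChange_fibre ((isLocalizedModule_iff_isBaseChange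
    (hU.primeIdealOf x).asIdeal.primeCompl (X.presheaf.stalk x.1) (germLin M x)).1 inferInstance)]
  exact finrank_eq_residueField (hU.primeIdealOf x).asIdeal _ hK

/-- Finite type modules, flat and of constant fibre rank near each point, are finite locally free;
flatness may be replaced by reducedness. -/
theorem isFinLocFree_of_rank {X : Scheme.{u}} (M : X.Modules) (hM : Coh.IsQCoh M)
    (hft : CohB1.IsFT M) (hred : IsReduced X ∨ FlatMod.IsFlat M)
    (hlc : IsLocallyConstant (fun x : X => Module.finrank (IsLocalRing.ResidueField (X.presheaf.stalk x))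
          (TensorProduct (X.presheaf.stalk x) (IsLocalRing.ResidueField (X.presheaf.stalk x)) (M.presheaf.stalk x)))) :
    FlatMod.IsFinLocFree M := by
  refine isFinLocFree_of_basis_upTo M hM fun x => ?_
  obtain ⟨W, hW, hxW, hconst⟩ := (IsLocallyConstant.iff_exists_open _).1 hlc x
  obtain ⟨_, ⟨U, hU : IsAffineOpen U, rfl⟩, hxU, hle⟩ :=
    X.isBasis_affineOpens.exists_subset_of_mem_open hxW hW
  set r := Module.finrank (hU.primeIdealOf ⟨x, hxU⟩).asIdeal.ResidueField
    ((hU.primeIdealOf ⟨x, hxU⟩).asIdeal.ResidueField ⊗[Γ(X, U)] Γ(M, U)) with hr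
  haveI := H29Fitt.finite_sections M hM hft ⟨U, hU⟩
  have hrank : ∀ (q : Ideal Γ(X, U)) [q.IsPrime],
      Module.finrank q.ResidueField (q.ResidueField ⊗[Γ(X, U)] Γ(M, U)) = r := fun q hq => by
    obtain ⟨y, hy⟩ : ∃ y : U, hU.primeIdealOf y = ⟨q, hq⟩ := by
      refine ⟨⟨hU.fromSpec ⟨q, hq⟩, hU.range_fromSpec.le ⟨_, rfl⟩⟩, ?_⟩
      apply hU.fromSpec.isOpenEmbedding.injective
      exact hU.fromSpec_primeIdealOf _
    obtain rfl : q = (hU.primeIdealOf y).asIdeal := by rw [hy]
    rw [hr, ← finrank_stalk_fibre M hM hft hU y, ← finrank_stalk_fibre M hM hft hU ⟨x, hxU⟩]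
    exact hconst y.1 (hle y.2)
  obtain ⟨f, hf, m, hs⟩ := exists_spansUpTo_powers
    ((not_le_prime_iff_finrank_le r (hU.primeIdealOf ⟨x, hxU⟩).asIdeal).2 (hrank _).le)
  refine ⟨U, hU, f, r, m, ?_, hs, ?_⟩
  · by_contra hn
    refine hf ((H29Blow.mem_primeIdealOf_iff hU ⟨x, hxU⟩ f).mpr fun hu => hn ?_)
    exact (X.mem_basicOpen f x hxU).mpr hu
  rcases hred with hred | hfl
  · exact indepUpTo_of_isReduced hs fun q _ _ => (hrank q).ge
  · haveI := (flat_sections_iff M hM hU).2 fun y => hfl y.1
    refine indepUpTo_of_free hs fun q _ _ => ?_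
    haveI : Module.Finite (Localization.AtPrime q) (LocalizedModule q.primeCompl Γ(M, U)) :=
      Module.Finite.of_isLocalizedModule q.primeCompl (LocalizedModule.mkLinearMap q.primeCompl Γ(M, U))
    haveI : Module.Free (Localization.AtPrime q) (LocalizedModule q.primeCompl Γ(M, U)) :=
      Module.free_of_flat_of_isLocalRing
    have h : Module.finrank (Localization.AtPrime q) (LocalizedModule q.primeCompl Γ(M, U)) = r := by
      rw [← hrank q, ← finrank_baseChange_fibre ((isLocalizedModule_iff_isBaseChange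
        q.primeCompl (Localization.AtPrime q) (LocalizedModule.mkLinearMap q.primeCompl Γ(M, U))).1
        inferInstance), Module.finrank_baseChange]
    exact ⟨(Module.finBasisOfFinrankEq _ _ h)⟩

end Groth.Agent.H8Props.FinLocFree

namespace Groth.Agent.H8Props.FinLocFree

open H29Fitt

/-- Stalks of finite locally free modules are free. -/
theorem free_stalk {X : Scheme.{u}} (M : X.Modules) (h : FlatMod.IsFinLocFree M) (x : X) :
    Module.Free (X.presheaf.stalk x) (M.presheaf.stalk x) := by
  have hM := isQCoh_of_isFinLocFree M h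
  obtain ⟨_, ⟨U, hU : IsAffineOpen U, rfl⟩, hxU, -⟩ :=
    X.isBasis_affineOpens.exists_subset_of_mem_open (Set.mem_univ x) isOpen_univ
  let y : U := ⟨x, hxU⟩
  letI := TopCat.Presheaf.algebra_section_stalk X.presheaf y
  letI := Module.compHom (M.presheaf.stalk x) (algebraMap Γ(X, U) (X.presheaf.stalk x))
  haveI : IsScalarTower Γ(X, U) (X.presheaf.stalk x) (M.presheaf.stalk x) :=
    .of_algebraMap_smul fun _ _ => rfl
  haveI := isLocalizedModule_germLin M hM hU y
  haveI : IsLocalization.AtPrime (X.presheaf.stalk x) (hU.primeIdealOf y).asIdeal :=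
    hU.isLocalization_stalk y
  haveI := finitePresentation_sections M (isFP_of_isFinLocFree M h) hU
  haveI : Module.Flat (X.presheaf.stalk x) (M.presheaf.stalk x) := isFlatAt_of_isFinLocFree M h x
  haveI : Module.Finite (X.presheaf.stalk x) (M.presheaf.stalk x) :=
    Module.Finite.of_isLocalizedModule (hU.primeIdealOf y).asIdeal.primeCompl (germLin M y)
  exact Module.free_of_flat_of_isLocalRing

/-- The fibre rank of a finite locally free module is locally constant. -/
theorem isLocallyConstant_rank {X : Scheme.{u}} (M : X.Modules) (h : FlatMod.IsFinLocFree M) :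
    IsLocallyConstant (fun x : X => Module.finrank (IsLocalRing.ResidueField (X.presheaf.stalk x))
      (TensorProduct (X.presheaf.stalk x) (IsLocalRing.ResidueField (X.presheaf.stalk x))
        (M.presheaf.stalk x))) := by
  have hM := isQCoh_of_isFinLocFree M h
  have hft := isFT_of_isFP M (isFP_of_isFinLocFree M h)
  refine (IsLocallyConstant.iff_exists_open _).2 fun x => ?_
  obtain ⟨W, n, hxW, ⟨e⟩⟩ := h x
  obtain ⟨_, ⟨V, hV : IsAffineOpen V, rfl⟩, hxV, hle⟩ :=
    X.isBasis_affineOpens.exists_subset_of_mem_open hxW W.isOpen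
  refine ⟨V, V.isOpen, hxV, fun y hy => ?_⟩
  haveI := (free_finite_of_chart M e hle).1
  haveI := (free_finite_of_chart M e hle).2
  haveI : Nontrivial Γ(X, V) :=
    (algebraMap Γ(X, V) (hV.primeIdealOf ⟨x, hxV⟩).asIdeal.ResidueField).domain_nontrivial
  rw [finrank_stalk_fibre M hM hft hV ⟨y, hy⟩, finrank_stalk_fibre M hM hft hV ⟨x, hxV⟩,
    Module.finrank_baseChange, Module.finrank_baseChange]

theorem isFinLocFree_of_retract_free {X : Scheme.{u}} {M : X.Modules} {n : ℕ}
    (i : M ⟶ FlatMod.freeMod X n) (p : FlatMod.freeMod X n ⟶ M) (hip : i ≫ p = 𝟙 M) :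
    FlatMod.IsFinLocFree M := by
  have hfree : (FlatMod.freeMod X n).IsQuasicoherent := isQuasicoherent_freeMod X n
  have hM : M.IsQuasicoherent := by
    haveI := hfree
    have h1 : (i ≫ (𝟙 _ - p ≫ i)) = 0 := by
      rw [Preadditive.comp_sub, ← Category.assoc, hip, Category.id_comp, Category.comp_id, sub_self]
    have hlim : IsLimit (KernelFork.ofι i h1) := KernelFork.IsLimit.ofι i h1
      (fun k _ => k ≫ p)
      (fun k hk => by
        rw [Preadditive.comp_sub, sub_eq_zero, Category.comp_id] at hk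
        rw [Category.assoc]; exact hk.symm)
      (fun k _ m hm => by rw [← hm, Category.assoc, hip, Category.comp_id])
    exact @H10Coh.isQuasicoherent_of_iso _ _ _
      ((kernelIsKernel (𝟙 _ - p ≫ i)).conePointUniqueUpToIso hlim)
      (H10Coh.isQuasicoherent_kernel _)
  refine isFinLocFree_of_sections M hM fun x => ?_
  obtain ⟨_, ⟨U, hU : IsAffineOpen U, rfl⟩, hxU, -⟩ :=
    X.isBasis_affineOpens.exists_subset_of_mem_open (Set.mem_univ x) isOpen_univ
  refine ⟨U, hU, hxU, ?_⟩
  haveI : Module.Free Γ(X, U) Γ(FlatMod.freeMod X n, U) :=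
    Module.Free.of_basis (Module.Basis.mk (Fintype.linearIndependent_iff.2
      fun c hc j => congrFun (gen_independent n U c hc) j) (gen_span n U).ge)
  haveI : Module.Finite Γ(X, U) Γ(FlatMod.freeMod X n, U) :=
    Module.Finite.of_basis (Module.Basis.mk (Fintype.linearIndependent_iff.2
      fun c hc j => congrFun (gen_independent n U c hc) j) (gen_span n U).ge)
  have hsplit : (appLin p U).comp (appLin i U) = LinearMap.id :=
    LinearMap.ext fun z => congr(($hip).app U z)
  haveI := Module.Projective.of_split (appLin i U) (appLin p U) hsplit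
  haveI : Module.Finite Γ(X, U) Γ(M, U) :=
    Module.Finite.of_surjective (appLin p U) fun z => ⟨appLin i U z, congr($hsplit z)⟩
  exact ⟨Module.finitePresentation_of_projective _ _, inferInstance⟩

end Groth.Agent.H8Props.FinLocFree
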