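import Groth.Agent.H8Props.FinLocFree.Alg
import Groth.Agent.H29Fitt.LocFree
import Groth.Agent.H29Fitt.Admissible
import Groth.Agent.H29Fitt.FP

/-!
# Finite locally free modules through sections over affine opens
-/

set_option autoImplicit false

universe u

open CategoryTheory Limits AlgebraicGeometry TopologicalSpace Opposite

namespace Groth.Agent.H8Props.FinLocFree

open H29Fitt

variable {X : Scheme.{u}}

/-- No relations on the opens `D(g) ⊆ D(f)`. -/
theorem indep_basicOpen (F : X.Modules) (hF : Coh.IsQCoh F) {U : X.Opens} (hU : IsAffineOpen U)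
    {f g : Γ(X, U)} {r : ℕ} {m : Fin r → Γ(F, U)} (hm : IndepUpTo (Submonoid.powers f) m)
    (hg : X.basicOpen g ≤ X.basicOpen f) (c : Fin r → Γ(X, X.basicOpen g))
    (hc : ∑ j, c j • F.presheaf.map (homOfLE (X.basicOpen_le g)).op (m j) = 0) : c = 0 := by
  classical
  haveI := hU.isLocalization_basicOpen g
  let res := F.presheaf.map (homOfLE (X.basicOpen_le g)).op
  let rres := algebraMap Γ(X, U) Γ(X, X.basicOpen g)
  obtain ⟨⟨b, hb⟩, hint⟩ := IsLocalization.exist_integer_multiples_of_finite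
    (Submonoid.powers g) c
  have hint' : ∀ j, ∃ a, rres a = rres b * c j := fun j => by
    obtain ⟨a, ha⟩ := hint j
    exact ⟨a, ha.trans (Algebra.smul_def _ _)⟩
  choose a ha using hint'
  have h0 : res (∑ j, a j • m j) = 0 := by
    rw [map_sum]
    calc ∑ j, res (a j • m j) = ∑ j, rres b • (c j • res (m j)) :=
          Finset.sum_congr rfl fun j _ => by
            rw [smul_smul, ← ha]
            exact Scheme.Modules.map_smul F _ _ _
      _ = 0 := by rw [← Finset.smul_sum, hc, smul_zero]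
  obtain ⟨N, hN⟩ := H29Blow.exists_pow_smul_eq_zero F hF hU g _ h0
  have hsum : ∑ j, (g ^ N * a j) • m j = 0 := by
    rw [← hN, Finset.smul_sum]
    exact Finset.sum_congr rfl fun j _ => mul_smul _ _ _
  funext j
  obtain ⟨_, ⟨M, rfl⟩, hM⟩ := hm _ hsum j
  have hfu : IsUnit (rres f) := by
    have e : (X.presheaf.map (homOfLE (X.basicOpen_le g)).op) =
        X.presheaf.map (homOfLE (X.basicOpen_le f)).op ≫ X.presheaf.map (homOfLE hg).op := by
      rw [← Functor.map_comp]; rfl
    change IsUnit ((X.presheaf.map (homOfLE (X.basicOpen_le g)).op).hom f)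
    rw [e]
    exact (RingedSpace.isUnit_res_basicOpen X.toRingedSpace f).map
      (X.presheaf.map (homOfLE hg).op).hom
  have hgu : IsUnit (rres g) := RingedSpace.isUnit_res_basicOpen X.toRingedSpace g
  have hbu : IsUnit (rres b) := IsLocalization.map_units Γ(X, X.basicOpen g) (⟨b, hb⟩ : Submonoid.powers g)
  have h := congrArg rres hM
  rw [map_mul, map_pow, map_mul, map_pow, map_zero, (hfu.pow M).mul_right_eq_zero,
    (hgu.pow N).mul_right_eq_zero, ha, hbu.mul_right_eq_zero] at h
  exact h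

/-- A basis up to powers of `f` trivialises the module on `D(f)`. -/
theorem isIso_basicHom (F : X.Modules) (hF : Coh.IsQCoh F) {U : X.Opens} (hU : IsAffineOpen U)
    (f : Γ(X, U)) {r : ℕ} (m : Fin r → Γ(F, U)) (hs : SpansUpTo (Submonoid.powers f) m)
    (hi : IndepUpTo (Submonoid.powers f) m) : IsIso (basicHom F f m) := by
  haveI := epi_basicHom F hF hU f m hs
  have hmono : Mono (basicHom F f m) := by
    refine H11Tilde.mono_of_injective _ fun W s hs' y hy => ?_
    obtain ⟨g, V, hVW, hyV, hV, hg⟩ := exists_basic_nhd hU f W y hy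
    obtain ⟨c, hc⟩ := exists_eq_sum_gen (X := (↑(X.basicOpen f) : Scheme.{u})) r V
      ((FlatMod.freeMod (↑(X.basicOpen f)) r).presheaf.map (homOfLE hVW).op s)
    refine ⟨V, hVW, hyV, ?_⟩
    have hsum : ∑ j, c j • (basicHom F f m).app V (gen _ r j V) = 0 := by
      have h := congrArg ((basicHom F f m).app V) hc
      rw [H11Tilde.app_map_apply, hs', map_zero, map_sum] at h
      simp only [Scheme.Modules.Hom.app_smul] at h
      exact h
    let σ := ((X.basicOpen f).ι.appIso V).inv.hom
    let E := (F.restrictAppIso (X.basicOpen f).ι V).hom.hom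
    have h0 : ∀ (W : X.Opens) (_ : W = X.basicOpen g) (hle : W ≤ U) (d : Fin r → Γ(X, W)),
        ∑ j, d j • F.presheaf.map (homOfLE hle).op (m j) = 0 → d = 0 := by
      rintro _ rfl _ d hd
      exact indep_basicOpen F hF hU hi hg d hd
    have hEg : ∀ j, E ((basicHom F f m).app V (gen _ r j V)) =
        F.presheaf.map (homOfLE (((X.basicOpen f).ι_image_le V).trans (X.basicOpen_le f))).op (m j) :=
      fun j => by
        rw [basicHom_gen]
        exact congr($((F.restrictAppIso (X.basicOpen f).ι V).inv_hom_id) _)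
    have hd := h0 _ hV (((X.basicOpen f).ι_image_le V).trans (X.basicOpen_le f)) (fun j => σ (c j))
      (by
        have h' := congrArg E hsum
        rw [map_sum, map_zero] at h'
        refine Eq.trans ?_ h'
        refine Finset.sum_congr rfl fun j _ => ?_
        rw [← hEg]
        rfl)
    rw [← hc]
    refine Finset.sum_eq_zero fun j _ => ?_
    rw [show c j = 0 from (ConcreteCategory.bijective_of_isIso ((X.basicOpen f).ι.appIso V).inv).1
      ((congrFun hd j).trans (map_zero σ).symm), zero_smul]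
  exact isIso_of_mono_of_epi (basicHom F f m)

/-- Existence of bases up to powers near every point gives finite local freeness. -/
theorem isFinLocFree_of_basis_upTo (F : X.Modules) (hF : Coh.IsQCoh F)
    (h : ∀ x : X, ∃ (U : X.Opens) (_ : IsAffineOpen U) (f : Γ(X, U)) (r : ℕ)
      (m : Fin r → Γ(F, U)), x ∈ X.basicOpen f ∧ SpansUpTo (Submonoid.powers f) m ∧
        IndepUpTo (Submonoid.powers f) m) : FlatMod.IsFinLocFree F := fun x => by
  obtain ⟨U, hU, f, r, m, hx, hs, hi⟩ := h x
  haveI := isIso_basicHom F hF hU f m hs hi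
  exact ⟨X.basicOpen f, r, hx, ⟨(asIso (basicHom F f m)).symm⟩⟩

/-- A free chart has a basis of sections over the opens inside it. -/
theorem exists_basis_of_chart (F : X.Modules) {U : X.Opens} {r : ℕ}
    (e : F.restrict U.ι ≅ FlatMod.freeMod (↑U) r) {V : X.Opens} (hle : V ≤ U) :
    Nonempty (Module.Basis (Fin r) Γ(X, V) Γ(F, V)) := by
  have hpre : U.ι ''ᵁ (U.ι ⁻¹ᵁ V) = V := by
    rw [Scheme.Hom.image_preimage_eq_opensRange_inf, Scheme.Opens.opensRange_ι]
    exact inf_eq_right.2 hle
  rw [← hpre]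
  let E := (F.restrictAppIso U.ι (U.ι ⁻¹ᵁ V)).hom.hom.comp (e.inv.app (U.ι ⁻¹ᵁ V)).hom
  have hE : Function.Bijective E :=
    (ConcreteCategory.bijective_of_isIso (F.restrictAppIso U.ι (U.ι ⁻¹ᵁ V)).hom).comp
      (ConcreteCategory.bijective_of_isIso (e.inv.app (U.ι ⁻¹ᵁ V)))
  have hEs : ∀ (a : Γ(↑U, U.ι ⁻¹ᵁ V)) (y : Γ(FlatMod.freeMod (↑U) r, U.ι ⁻¹ᵁ V)),
      E (a • y) = (U.ι.appIso (U.ι ⁻¹ᵁ V)).inv a • E y := fun a y => by
    change (F.restrictAppIso U.ι _).hom (e.inv.app _ (a • y)) = _
    rw [Scheme.Modules.Hom.app_smul]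
    rfl
  have hspan := span_of_semilinear (U.ι.appIso (U.ι ⁻¹ᵁ V)).inv.hom E hEs hE.2
    (gen_span (X := (↑U : Scheme.{u})) r (U.ι ⁻¹ᵁ V))
  have hb := ConcreteCategory.bijective_of_isIso (U.ι.appIso (U.ι ⁻¹ᵁ V)).inv
  have hind : LinearIndependent Γ(X, U.ι ''ᵁ (U.ι ⁻¹ᵁ V))
      (fun j => E (gen (↑U) r j (U.ι ⁻¹ᵁ V))) := by
    rw [Fintype.linearIndependent_iff]
    intro c hc
    choose c' hc' using fun j => hb.2 (c j)
    have h0 : ∑ j, c' j • gen (↑U) r j (U.ι ⁻¹ᵁ V) = 0 := hE.1 (by
      rw [map_sum, map_zero, ← hc]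
      exact Finset.sum_congr rfl fun j _ => by rw [hEs, hc'])
    intro j
    rw [← hc', congrFun (gen_independent r _ c' h0) j]
    exact map_zero (U.ι.appIso (U.ι ⁻¹ᵁ V)).inv.hom
  exact ⟨Module.Basis.mk hind hspan.ge⟩

/-- Sections of a free chart over affine opens inside it. -/
theorem free_finite_of_chart (F : X.Modules) {U : X.Opens} {r : ℕ}
    (e : F.restrict U.ι ≅ FlatMod.freeMod (↑U) r) {V : X.Opens} (hle : V ≤ U) :
    Module.Free Γ(X, V) Γ(F, V) ∧ Module.Finite Γ(X, V) Γ(F, V) :=
  have ⟨b⟩ := exists_basis_of_chart F e hle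
  ⟨Module.Free.of_basis b, Module.Finite.of_basis b⟩

theorem isQCoh_of_isFinLocFree (G : X.Modules) (h : FlatMod.IsFinLocFree G) : Coh.IsQCoh G := by
  choose U n hxU e using h
  have hq : ∀ x, (G.restrict (U x).ι).IsQuasicoherent := fun x =>
    @H10Coh.isQuasicoherent_of_iso _ _ _ (e x).some.symm (isQuasicoherent_freeMod _ (n x))
  choose V hxV hV hle using fun x : X => show ∃ V : X.Opens, x ∈ V ∧ IsAffineOpen V ∧ V ≤ U x by
    obtain ⟨_, ⟨V, hV : IsAffineOpen V, rfl⟩, hxV, hle⟩ :=
      X.isBasis_affineOpens.exists_subset_of_mem_open (hxU x) (U x).isOpen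
    exact ⟨V, hxV, hV, hle⟩
  refine H10Coh.isQuasicoherent_of_affineCover G V
    (eq_top_iff.2 fun x _ => Opens.mem_iSup.2 ⟨x, hxV x⟩) hV fun x => ?_
  haveI : IsAffine (V x : Scheme.{u}) := hV x
  haveI := hq x
  exact @H10Coh.isQuasicoherent_of_iso _ _ _
    (((Scheme.Modules.restrictFunctorComp ((hV x).isoSpec.inv ≫ X.homOfLE (hle x)) (U x).ι).symm.app G) ≪≫
      (Scheme.Modules.restrictFunctorCongr (by
        rw [Category.assoc, X.homOfLE_ι (hle x), Iso.inv_comp_eq,
          (hV x).isoSpec_hom_fromSpec])).app G)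
    (Scheme.Modules.isQuasicoherent_restrictFunctor ((hV x).isoSpec.inv ≫ X.homOfLE (hle x))
      (G.restrict (U x).ι))

/-- Finite presentation of global sections over `R` from that over `Γ(Spec R, ⊤)`. -/
theorem finitePresentation_ΓSpec {R : CommRingCat.{u}} (M : (Spec R).Modules)
    [Module.FinitePresentation Γ(Spec R, ⊤) Γ(M, ⊤)] :
    Module.FinitePresentation R ((H10Coh.ΓSpec R).obj M) := by
  refine finitePresentation_of_semilinear (M := Γ(M, ⊤)) (Scheme.ΓSpecIso R).hom.hom
    (ConcreteCategory.bijective_of_isIso (Scheme.ΓSpecIso R).hom) (AddMonoidHom.id _)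
    (fun a m => ?_) ⟨fun _ _ h => h, fun n => ⟨n, rfl⟩⟩
  have h := Scheme.Modules.smul_Spec_def (M := M) (U := ⊤) ((Scheme.ΓSpecIso R).hom a) m
  have hid : (⊤ : (Spec R).Opens).leTop.op = 𝟙 _ := Subsingleton.elim _ _
  rw [hid, CategoryTheory.Functor.map_id] at h
  refine Eq.trans ?_ h.symm
  exact congrArg (· • m) (congr($((Scheme.ΓSpecIso R).hom_inv_id) a)).symm

/-- Quasi-coherent modules with finitely presented sections on an affine cover are of finite
presentation. -/
theorem isFP_of_affineCover (M : X.Modules) (hM : Coh.IsQCoh M) {I : Type u} (U : I → X.Opens)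
    (hU : IsOpenCover U) (hA : ∀ i, IsAffineOpen (U i))
    (h : ∀ i, Module.FinitePresentation Γ(X, U i) Γ(M, U i)) : CohB1.IsFP M := by
  classical
  haveI : M.IsQuasicoherent := hM
  have hq := fun i => Scheme.Modules.isQuasicoherent_restrictFunctor (hA i).fromSpec M
  have htop : ∀ i, (hA i).fromSpec ''ᵁ ⊤ = U i := fun i => by
    rw [Scheme.Hom.image_top_eq_opensRange, (hA i).opensRange_fromSpec]
  have heq : ∀ {V W : X.Opens} (_ : V = W), Module.FinitePresentation Γ(X, W) Γ(M, W) →
      Module.FinitePresentation Γ(X, V) Γ(M, V) := by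
    rintro V _ rfl h; exact h
  have hfp' : ∀ i, Module.FinitePresentation Γ(Spec Γ(X, U i), ⊤)
      Γ(M.restrict (hA i).fromSpec, ⊤) := fun i => by
    haveI := heq (htop i) (h i)
    exact finitePresentation_of_semilinear ((hA i).fromSpec.appIso ⊤).hom.hom
      (ConcreteCategory.bijective_of_isIso ((hA i).fromSpec.appIso ⊤).hom)
      (M.restrictAppIso (hA i).fromSpec ⊤).inv.hom
      (fun a m => Scheme.Modules.smul_restrictAppIso_inv_apply (hA i).fromSpec M ⊤ a m)
      (ConcreteCategory.bijective_of_isIso (M.restrictAppIso (hA i).fromSpec ⊤).inv)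
  have hfp : ∀ i, Module.FinitePresentation Γ(X, U i)
      ((H10Coh.ΓSpec Γ(X, U i)).obj (M.restrict (hA i).fromSpec)) := fun i => by
    haveI := hfp' i
    exact finitePresentation_ΓSpec _
  haveI hfin : ∀ i, Module.Finite Γ(X, U i)
      ((H10Coh.ΓSpec Γ(X, U i)).obj (M.restrict (hA i).fromSpec)) := fun i => by
    haveI := hfp i
    infer_instance
  choose P hP1 hP2 using fun i => @H10Coh.exists_finite_presentation_tilde _ _ (hfin i)
  let e i := @H10Coh.tildeIso _ (M.restrict (hA i).fromSpec) (hq i)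
  let Q i := H10Coh.presentationOver M (U i) (H10Coh.presOfIso
    ((Scheme.Modules.restrictFunctorComp (hA i).isoSpec.hom (hA i).fromSpec).symm.app M ≪≫
      (Scheme.Modules.restrictFunctorCongr (hA i).isoSpec_hom_fromSpec).app M)
    (Scheme.Modules.presentationRestrict (hA i).isoSpec.hom (H10Coh.presOfIso (e i) (P i))))
  let σ : SheafOfModules.QuasicoherentData (R := X.ringCatSheaf) M :=
    { I := I
      X := U
      coversTop := (Opens.coversTop_iff _ _).2 hU
      presentation := Q }
  suffices hσ : σ.IsFinitePresentation by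
    exact SheafOfModules.IsFinitePresentation.mk (R := X.ringCatSheaf) ⟨σ, hσ⟩
  constructor
  intro j
  exact ⟨⟨(hP2 _ (hfp j)).isFiniteType_generators.finite⟩,
    ⟨(hP2 _ (hfp j)).isFiniteType_relations.finite⟩⟩

theorem finitePresentation_sections (M : X.Modules) (hM : CohB1.IsFP M) {U : X.Opens}
    (hU : IsAffineOpen U) : Module.FinitePresentation Γ(X, U) Γ(M, U) := by
  have hq := isQCoh_of_isFP M hM
  choose t ht hfp using fun x : U => exists_basicOpen_finitePresentation M hM hU x
  have hspan : Ideal.span (Set.range t) = ⊤ := by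
    rw [← hU.self_le_iSup_basicOpen_iff]
    intro x hx
    exact Opens.mem_iSup.2 ⟨⟨t ⟨x, hx⟩, _, rfl⟩, ht ⟨x, hx⟩⟩
  letI : ∀ g : Set.range t, Module Γ(X, U) Γ(M, X.basicOpen g.1) := fun g =>
    Module.compHom _ (algebraMap Γ(X, U) Γ(X, X.basicOpen g.1))
  haveI : ∀ g : Set.range t, IsScalarTower Γ(X, U) Γ(X, X.basicOpen g.1) Γ(M, X.basicOpen g.1) :=
    fun g => .of_algebraMap_smul fun _ _ => rfl
  haveI : ∀ g : Set.range t, IsLocalization.Away g.1 Γ(X, X.basicOpen g.1) :=
    fun g => hU.isLocalization_basicOpen g.1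
  haveI : ∀ g : Set.range t, IsLocalizedModule (Submonoid.powers g.1) (resLin M g.1) :=
    fun g => isLocalizedModule_resLin M hq hU g.1
  exact Module.FinitePresentation.of_localizationSpan' (Rₚ := fun g => Γ(X, X.basicOpen g.1))
    _ hspan (fun g : Set.range t => resLin M g.1) fun g => by
      obtain ⟨x, hx⟩ := g.2
      rw [← hx]
      exact hfp x

theorem flat_sections_iff (M : X.Modules) (hM : Coh.IsQCoh M) {U : X.Opens} (hU : IsAffineOpen U) :
    Module.Flat Γ(X, U) Γ(M, U) ↔ ∀ x : U, FlatMod.IsFlatAt M x.1 := by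
  constructor
  · intro h x
    letI := TopCat.Presheaf.algebra_section_stalk X.presheaf x
    letI := Module.compHom (M.presheaf.stalk x.1) (algebraMap Γ(X, U) (X.presheaf.stalk x.1))
    haveI : IsScalarTower Γ(X, U) (X.presheaf.stalk x.1) (M.presheaf.stalk x.1) :=
      .of_algebraMap_smul fun _ _ => rfl
    haveI := isLocalizedModule_germLin M hM hU x
    haveI : IsLocalization.AtPrime (X.presheaf.stalk x.1) (hU.primeIdealOf x).asIdeal :=
      hU.isLocalization_stalk x
    exact Module.Flat.of_isLocalizedModule (X.presheaf.stalk x.1)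
      (hU.primeIdealOf x).asIdeal.primeCompl (germLin M x)
  · intro h
    refine Module.flat_of_localized_maximal Γ(M, U) fun P hP => ?_
    haveI : P.IsPrime := hP.isPrime
    obtain ⟨x, hx⟩ : ∃ x : U, hU.primeIdealOf x = ⟨P, hP.isPrime⟩ := by
      refine ⟨⟨hU.fromSpec ⟨P, hP.isPrime⟩, hU.range_fromSpec.le ⟨_, rfl⟩⟩, ?_⟩
      apply hU.fromSpec.isOpenEmbedding.injective
      exact hU.fromSpec_primeIdealOf _
    obtain rfl : P = (hU.primeIdealOf x).asIdeal := by rw [hx]
    letI := TopCat.Presheaf.algebra_section_stalk X.presheaf x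
    letI := Module.compHom (M.presheaf.stalk x.1) (algebraMap Γ(X, U) (X.presheaf.stalk x.1))
    haveI : IsScalarTower Γ(X, U) (X.presheaf.stalk x.1) (M.presheaf.stalk x.1) :=
      .of_algebraMap_smul fun _ _ => rfl
    haveI := isLocalizedModule_germLin M hM hU x
    haveI : IsLocalization.AtPrime (X.presheaf.stalk x.1) (hU.primeIdealOf x).asIdeal :=
      hU.isLocalization_stalk x
    have h' : Module.Flat Γ(X, U) (M.presheaf.stalk x.1) :=
      (Module.flat_iff_of_isLocalization (X.presheaf.stalk x.1)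
        (hU.primeIdealOf x).asIdeal.primeCompl (M.presheaf.stalk x.1)).1 (h x)
    exact (Module.Flat.equiv_iff (IsLocalizedModule.iso (hU.primeIdealOf x).asIdeal.primeCompl
      (germLin M x))).2 h'

theorem isFP_of_isFinLocFree (M : X.Modules) (h : FlatMod.IsFinLocFree M) : CohB1.IsFP M := by
  have hq := isQCoh_of_isFinLocFree M h
  choose U n hxU e using h
  choose V hxV hV hle using fun x : X => show ∃ V : X.Opens, x ∈ V ∧ IsAffineOpen V ∧ V ≤ U x by
    obtain ⟨_, ⟨V, hV : IsAffineOpen V, rfl⟩, hxV, hle⟩ :=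
      X.isBasis_affineOpens.exists_subset_of_mem_open (hxU x) (U x).isOpen
    exact ⟨V, hxV, hV, hle⟩
  refine isFP_of_affineCover M hq V (eq_top_iff.2 fun x _ => Opens.mem_iSup.2 ⟨x, hxV x⟩) hV
    fun x => ?_
  haveI := (free_finite_of_chart M (e x).some (hle x)).1
  haveI := (free_finite_of_chart M (e x).some (hle x)).2
  exact Module.finitePresentation_of_projective _ _

theorem isFlatAt_of_isFinLocFree (M : X.Modules) (h : FlatMod.IsFinLocFree M) (x : X) :
    FlatMod.IsFlatAt M x := by
  obtain ⟨U, n, hxU, ⟨e⟩⟩ := h x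
  obtain ⟨_, ⟨V, hV : IsAffineOpen V, rfl⟩, hxV, hle⟩ :=
    X.isBasis_affineOpens.exists_subset_of_mem_open hxU U.isOpen
  haveI := (free_finite_of_chart M e hle).1
  exact (flat_sections_iff M (isQCoh_of_isFinLocFree M h) hV).1 inferInstance ⟨x, hxV⟩

/-- Finite locally free modules have finite projective sections over affine opens. -/
theorem finite_projective_sections (M : X.Modules) (h : FlatMod.IsFinLocFree M) {U : X.Opens}
    (hU : IsAffineOpen U) : Module.Finite Γ(X, U) Γ(M, U) ∧ Module.Projective Γ(X, U) Γ(M, U) := by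
  haveI := finitePresentation_sections M (isFP_of_isFinLocFree M h) hU
  haveI := (flat_sections_iff M (isQCoh_of_isFinLocFree M h) hU).2
    fun x => isFlatAt_of_isFinLocFree M h x.1
  exact ⟨inferInstance, Module.Flat.projective_of_finitePresentation⟩

/-- Quasi-coherent modules with finitely presented flat sections near every point are finite
locally free. -/
theorem isFinLocFree_of_sections (M : X.Modules) (hM : Coh.IsQCoh M)
    (h : ∀ x : X, ∃ (U : X.Opens) (_ : IsAffineOpen U), x ∈ U ∧
      Module.FinitePresentation Γ(X, U) Γ(M, U) ∧ Module.Flat Γ(X, U) Γ(M, U)) :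
    FlatMod.IsFinLocFree M :=
  isFinLocFree_of_basis_upTo M hM fun x => by
    obtain ⟨U, hU, hxU, hfp, hfl⟩ := h x
    haveI : Module.Free (Localization.AtPrime (hU.primeIdealOf ⟨x, hxU⟩).asIdeal)
        (LocalizedModule (hU.primeIdealOf ⟨x, hxU⟩).asIdeal.primeCompl Γ(M, U)) :=
      Module.free_of_flat_of_isLocalRing
    obtain ⟨f, r, m, hf, hs, hi⟩ := exists_basis_upTo (M := Γ(M, U))
      (hU.primeIdealOf ⟨x, hxU⟩).asIdeal
    refine ⟨U, hU, f, r, m, ?_, hs, hi⟩
    by_contra hn
    refine hf ((H29Blow.mem_primeIdealOf_iff hU ⟨x, hxU⟩ f).mpr fun hu => hn ?_)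
    exact (X.mem_basicOpen f x hxU).mpr hu

theorem isFinLocFree_of_flat_of_isFP (M : X.Modules) (hM : Coh.IsQCoh M) (hfl : FlatMod.IsFlat M)
    (hfp : CohB1.IsFP M) : FlatMod.IsFinLocFree M :=
  isFinLocFree_of_sections M hM fun x => by
    obtain ⟨_, ⟨U, hU : IsAffineOpen U, rfl⟩, hxU, -⟩ :=
      X.isBasis_affineOpens.exists_subset_of_mem_open (Set.mem_univ x) isOpen_univ
    exact ⟨U, hU, hxU, finitePresentation_sections M hfp hU,
      (flat_sections_iff M hM hU).2 fun y => hfl y.1⟩

end Groth.Agent.H8Props.FinLocFree
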