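import Groth.Agent.H8Props.FinLocFree.Global
import Groth.Agent.H8Props.FlatLocus.Sheaf
import Groth.Agent.H06EGA9.ModuleCriterion
import Groth.Agent.H06Mod.StalkFinite
import Groth.Agent.H29Fitt.PullbackQCoh
import Groth.Agent.H10Coh.FinType2

/-!
# Local freeness on fibres
-/

set_option autoImplicit false

universe u

open CategoryTheory Limits AlgebraicGeometry TopologicalSpace

namespace Groth.Agent.H8Props.FinLocFree

variable {X S : Scheme.{u}}

theorem isFlatOverAt_id_iff (F : X.Modules) (x : X) :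
    FlatMod.IsFlatOverAt (𝟙 X) F x ↔ FlatMod.IsFlatAt F x := by
  have h : (FlatMod.moduleStalkOver (𝟙 X) F x : Module (X.presheaf.stalk x) (F.presheaf.stalk x)) =
      FlatMod.moduleStalk F x := by
    refine Module.ext' _ _ fun r m => ?_
    show @HSMul.hSMul (X.presheaf.stalk x) (F.presheaf.stalk x) _ _
      ((Scheme.Hom.stalkMap (𝟙 X) x).hom r) m = _
    rw [Scheme.Hom.stalkMap_id]
    rfl
  unfold FlatMod.IsFlatOverAt FlatMod.IsFlatAt
  show @Module.Flat (X.presheaf.stalk x) (F.presheaf.stalk x) _ _ (FlatMod.moduleStalkOver (𝟙 X) F x) ↔ _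
  rw [h]

/-- For a coherent module flat over the base, fibrewise flatness as a module is flatness. -/
theorem isFlatAt_fibre_iff [IsLocallyNoetherian X] (f : X ⟶ S) (F : X.Modules) (hF : Coh.IsCoh F)
    (hfl : FlatMod.IsFlatOver f F) (s : S) (z : f.fiber s) :
    FlatMod.IsFlatAt ((Scheme.Modules.pullback (f.fiberι s)).obj F) z ↔
      FlatMod.IsFlatAt F (f.fiberι s z) := by
  have hP : IsPullback (f.fiberι s) (f.fiberToSpecResidueField s) f (S.fromSpecResidueField s) :=
    IsPullback.of_hasPullback _ _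
  have hX : IsPullback (f.fiberι s) (𝟙 (f.fiber s)) (𝟙 X) (f.fiberι s) :=
    IsPullback.of_vert_isIso ⟨by simp⟩
  rw [← isFlatOverAt_id_iff, ← isFlatOverAt_id_iff,
    H06EGA9.isFlatOverAt_fibre_iff hP hX F z]
  constructor
  · intro h
    refine H06EGA9.isFlatOverAt_of_fibFlatAt (𝟙 X) f F _ (H06Mod.finite_stalk F hF.2 _) ?_ h
    exact (H06Mod.isFlatOverAt_congr (Category.id_comp f) F _).2 (hfl _)
  · exact H06EGA9.fibFlatAt_of_isFlatOverAt (𝟙 X) f F _

/-- The fibre module is finite locally free iff `F` is flat along the fibre. -/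
theorem isFinLocFree_fibre_iff [IsLocallyNoetherian X] (f : X ⟶ S) [LocallyOfFiniteType f]
    (F : X.Modules) (hF : Coh.IsCoh F) (hfl : FlatMod.IsFlatOver f F) (s : S) :
    FlatMod.IsFinLocFree ((Scheme.Modules.pullback (f.fiberι s)).obj F) ↔
      ∀ x : X, f x = s → FlatMod.IsFlatAt F x := by
  have hq := H29Fitt.isQCoh_pullback (f.fiberι s) F hF.1
  haveI : LocallyOfFiniteType (f.fiberToSpecResidueField s) :=
    MorphismProperty.pullback_snd (P := @LocallyOfFiniteType) _ _ ‹_›
  haveI : IsLocallyNoetherian (f.fiber s) :=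
    LocallyOfFiniteType.isLocallyNoetherian (f.fiberToSpecResidueField s)
  have hfp := H10Coh.isFP_of_isCoh _ (X := f.fiber s)
    ⟨hq, H29Fitt.isFT_pullback (f.fiberι s) F hF.1 hF.2⟩
  constructor
  · intro h x hx
    obtain ⟨z, rfl⟩ : ∃ z, f.fiberι s z = x := by
      obtain rfl := hx
      exact ⟨f.asFiber x, Scheme.Hom.fiberι_asFiber f x⟩
    exact (isFlatAt_fibre_iff f F hF hfl s z).1 (isFlatAt_of_isFinLocFree _ h z)
  · intro h
    refine isFinLocFree_of_flat_of_isFP _ hq (fun z => (isFlatAt_fibre_iff f F hF hfl s z).2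
      (h _ ?_)) hfp
    show f (f.fiberι s z) = s
    exact (f.range_fiberι s).le ⟨z, rfl⟩

theorem isOpen_setOf_fibre_isFinLocFree [IsLocallyNoetherian X] (f : X ⟶ S) [LocallyOfFiniteType f]
    (hcl : IsClosedMap f) (F : X.Modules) (hF : Coh.IsCoh F) (hfl : FlatMod.IsFlatOver f F) :
    IsOpen {s : S | FlatMod.IsFinLocFree ((Scheme.Modules.pullback (f.fiberι s)).obj F)} := by
  have hL := FlatLocus.isOpen_setOf_isFlatOverAt (𝟙 X) F (H10Coh.isFP_of_isCoh F hF)
  have e : {s : S | FlatMod.IsFinLocFree ((Scheme.Modules.pullback (f.fiberι s)).obj F)} =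
      (f '' {x : X | FlatMod.IsFlatOverAt (𝟙 X) F x}ᶜ)ᶜ := by
    ext s
    simp only [Set.mem_setOf_eq, isFinLocFree_fibre_iff f F hF hfl s, Set.mem_compl_iff,
      Set.mem_image, isFlatOverAt_id_iff]
    exact ⟨fun h ⟨x, hx, hxs⟩ => hx (h x hxs), fun h x hxs => by
      by_contra hx; exact h ⟨x, hx, hxs⟩⟩
  rw [e]
  exact (hcl _ hL.isClosed_compl).isOpen_compl

end Groth.Agent.H8Props.FinLocFree
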