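import Groth.Agent.H29Fitt.Rank
import Mathlib.RingTheory.Localization.Free
import Mathlib.RingTheory.Spectrum.Prime.FreeLocus
import Mathlib.RingTheory.Flat.EquationalCriterion

/-!
# Local bases of modules up to powers of an element
-/

set_option autoImplicit false

universe u

open TensorProduct

namespace Groth.Agent.H8Props.FinLocFree

variable {R : Type u} [CommRing R] {M : Type u} [AddCommGroup M] [Module R M]

/-- Every relation among `m` is killed by `S`, coefficientwise. -/
def IndepUpTo (S : Submonoid R) {k : ℕ} (m : Fin k → M) : Prop :=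
  ∀ c : Fin k → R, ∑ j, c j • m j = 0 → ∀ j, ∃ s ∈ S, s * c j = 0

/-- A family which becomes a basis after localisation spans and is independent up to `S`. -/
theorem spansUpTo_indepUpTo_of_basis {S : Submonoid R} {k : ℕ} (m : Fin k → M)
    (b : Module.Basis (Fin k) (Localization S) (LocalizedModule S M))
    (hb : ∀ j, b j = LocalizedModule.mk (m j) 1) :
    H29Fitt.SpansUpTo S m ∧ IndepUpTo S m := by
  have hind : IndepUpTo S m := fun c hc j => by
    have h : ∑ j, algebraMap R (Localization S) (c j) • b j = 0 := by
      have h' := congrArg (LocalizedModule.mkLinearMap S M) hc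
      simp only [map_sum, map_smul, map_zero] at h'
      rw [← h']
      exact Finset.sum_congr rfl fun i _ => by
        rw [hb, LocalizedModule.mkLinearMap_apply, algebraMap_smul]
    obtain ⟨⟨s, hs⟩, hsc⟩ := (IsLocalization.map_eq_zero_iff S (Localization S) (c j)).1
      (Fintype.linearIndependent_iff.1 b.linearIndependent _ h j)
    exact ⟨s, hs, hsc⟩
  refine ⟨fun y => ?_, hind⟩
  classical
  obtain ⟨c, hc⟩ : ∃ c : Fin k → Localization S, ∑ j, c j • b j = LocalizedModule.mk y 1 :=
    ⟨fun j => b.repr (LocalizedModule.mk y 1) j, b.sum_repr _⟩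
  obtain ⟨s, hs⟩ := IsLocalization.exist_integer_multiples_of_finset S
    (Finset.univ.image c)
  have hs' : ∀ j, ∃ a : R, algebraMap R (Localization S) a = algebraMap R (Localization S) s * c j :=
    fun j => by
      obtain ⟨a, ha⟩ := hs (c j) (Finset.mem_image_of_mem _ (Finset.mem_univ j))
      exact ⟨a, ha.trans (Algebra.smul_def _ _)⟩
  choose a ha using hs'
  have : LocalizedModule.mkLinearMap S M ((s : R) • y) =
      LocalizedModule.mkLinearMap S M (∑ j, a j • m j) := by
    rw [map_smul, map_sum, LocalizedModule.mkLinearMap_apply, ← hc, Finset.smul_sum]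
    refine Finset.sum_congr rfl fun j _ => ?_
    rw [map_smul, LocalizedModule.mkLinearMap_apply, ← hb,
      ← algebraMap_smul (Localization S) (s : R) (c j • b j), smul_smul, ← ha, algebraMap_smul]
  obtain ⟨⟨t, ht⟩, hts⟩ := (IsLocalizedModule.eq_iff_exists S (LocalizedModule.mkLinearMap S M)).1 this
  refine ⟨t * s, mul_mem ht s.2, ?_⟩
  rw [mul_smul, show t • ((s : R) • y) = t • ∑ j, a j • m j from hts]
  exact Submodule.smul_mem _ _ (Submodule.sum_mem _ fun j _ =>
    Submodule.smul_mem _ _ (Submodule.subset_span ⟨j, rfl⟩))

/-- A finitely presented module, free at a prime, has a basis up to powers of some `f` outside it. -/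
theorem exists_basis_upTo [Module.FinitePresentation R M] (p : Ideal R) [p.IsPrime]
    [Module.Free (Localization.AtPrime p) (LocalizedModule p.primeCompl M)] :
    ∃ (f : R) (k : ℕ) (m : Fin k → M), f ∉ p ∧ H29Fitt.SpansUpTo (Submonoid.powers f) m ∧
      IndepUpTo (Submonoid.powers f) m := by
  haveI : Module.Finite (Localization.AtPrime p) (LocalizedModule p.primeCompl M) :=
    Module.Finite.of_isLocalizedModule p.primeCompl (LocalizedModule.mkLinearMap p.primeCompl M)
  obtain ⟨f, hf, hfree, -⟩ := Module.FinitePresentation.exists_free_localizedModule_powers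
    p.primeCompl (LocalizedModule.mkLinearMap p.primeCompl M) (Localization.AtPrime p)
  have := (show Localization (.powers f) →+* Localization.AtPrime p from
    IsLocalization.map (M := .powers f) (T := p.primeCompl) _
      (RingHom.id _) (Submonoid.powers_le.mpr hf)).domain_nontrivial
  haveI : Module.Finite (Localization (.powers f)) (LocalizedModule.Away f M) :=
    Module.Finite.of_isLocalizedModule (Submonoid.powers f)
      (LocalizedModule.mkLinearMap (Submonoid.powers f) M)
  let b := Module.finBasis (Localization (.powers f)) (LocalizedModule.Away f M)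
  have hrep : ∀ j, ∃ (m : M) (s : Submonoid.powers f), b j = LocalizedModule.mk m s := fun j => by
    induction b j using LocalizedModule.induction_on with
    | h m s => exact ⟨m, s, rfl⟩
  choose m s hms using hrep
  let u : ∀ j, (Localization (Submonoid.powers f))ˣ := fun j =>
    (IsLocalization.map_units (Localization (Submonoid.powers f)) (s j)).unit
  refine ⟨f, _, m, hf, spansUpTo_indepUpTo_of_basis m (b.unitsSMul u) fun j => ?_⟩
  rw [Module.Basis.unitsSMul_apply, hms]
  change algebraMap R (Localization (Submonoid.powers f)) (s j) • LocalizedModule.mk (m j) (s j) = _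
  rw [algebraMap_smul, LocalizedModule.smul'_mk, ← LocalizedModule.mk_cancel (s j) (m j)]
  rfl

/-- On a reduced ring, `r` generators of a module all of whose fibres near `p` have rank at least
`r` have no relations. -/
theorem indepUpTo_of_isReduced [IsReduced R] [Module.Finite R M] {r : ℕ} {f : R} {m : Fin r → M}
    (hm : H29Fitt.SpansUpTo (Submonoid.powers f) m)
    (h : ∀ (q : Ideal R) [q.IsPrime], f ∉ q →
      r ≤ Module.finrank q.ResidueField (q.ResidueField ⊗[R] M)) :
    IndepUpTo (Submonoid.powers f) m := by
  intro c hc j
  suffices key : f * c j ∈ nilradical R by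
    exact ⟨f, Submonoid.mem_powers f, (IsNilpotent.eq_zero key)⟩
  rw [nilradical_eq_sInf, Submodule.mem_sInf]
  intro (q : Ideal R) (hq : Ideal.IsPrime q)
  by_cases hf : f ∈ q
  · exact Ideal.mul_mem_right _ _ hf
  refine Ideal.mul_mem_left _ _ ((Ideal.ker_algebraMap_residueField q).le (RingHom.mem_ker.2 ?_))
  let g : Fin r → q.ResidueField ⊗[R] M := fun i => 1 ⊗ₜ m i
  have hsp : ⊤ ≤ Submodule.span q.ResidueField (Set.range g) := by
    rintro t -
    induction t using TensorProduct.induction_on with
    | zero => exact Submodule.zero_mem _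
    | add a b ha hb => exact add_mem ha hb
    | tmul a y =>
      obtain ⟨s, ⟨n, rfl⟩, hsy⟩ := hm y
      obtain ⟨d, hd⟩ := (Submodule.mem_span_range_iff_exists_fun _).1 hsy
      have hu : algebraMap R q.ResidueField (f ^ n) ≠ 0 := fun h0 =>
        hf (hq.mem_of_pow_mem n ((Ideal.ker_algebraMap_residueField q).le h0))
      have heq : a ⊗ₜ[R] y = ∑ i, (a / algebraMap R q.ResidueField (f ^ n) *
          algebraMap R q.ResidueField (d i)) • g i := by
        calc a ⊗ₜ[R] y = (a / algebraMap R q.ResidueField (f ^ n)) •
              (1 : q.ResidueField) ⊗ₜ[R] ((fun n => f ^ n) n • y) := by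
              rw [TensorProduct.tmul_smul, TensorProduct.smul_tmul', TensorProduct.smul_tmul',
                smul_eq_mul, Algebra.smul_def, mul_one, div_mul_cancel₀ _ hu]
          _ = _ := by
              rw [← hd, TensorProduct.tmul_sum, Finset.smul_sum]
              refine Finset.sum_congr rfl fun i _ => ?_
              rw [TensorProduct.tmul_smul, ← algebraMap_smul q.ResidueField (d i), smul_smul]
      rw [heq]
      exact Submodule.sum_mem _ fun i _ =>
        Submodule.smul_mem _ _ (Submodule.subset_span ⟨i, rfl⟩)
  have hcard : Fintype.card (Fin r) = Module.finrank q.ResidueField (q.ResidueField ⊗[R] M) := by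
    refine le_antisymm ((Fintype.card_fin r).le.trans (h q hf)) ?_
    have := finrank_range_le_card (R := q.ResidueField) g
    rwa [Set.finrank, top_le_iff.1 hsp, finrank_top] at this
  have hli : LinearIndependent q.ResidueField g :=
    linearIndependent_of_top_le_span_of_card_eq_finrank hsp hcard
  refine Fintype.linearIndependent_iff.1 hli (fun i => algebraMap R q.ResidueField (c i)) ?_ j
  rw [← TensorProduct.tmul_zero M (1 : q.ResidueField), ← hc, TensorProduct.tmul_sum]
  exact Finset.sum_congr rfl fun i _ => by rw [TensorProduct.tmul_smul, algebraMap_smul]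

/-- Generators near `p` of a module which is free of that rank at each prime of `D(f)` have no
relations. -/
theorem indepUpTo_of_free {r : ℕ} {f : R} {m : Fin r → M}
    (hm : H29Fitt.SpansUpTo (Submonoid.powers f) m)
    (h : ∀ (q : Ideal R) [q.IsPrime], f ∉ q →
      Nonempty (Module.Basis (Fin r) (Localization.AtPrime q) (LocalizedModule q.primeCompl M))) :
    IndepUpTo (Submonoid.powers f) m := by
  intro c hc j
  have hrad : f ∈ Ideal.radical (LinearMap.ker (LinearMap.toSpanSingleton R R (c j)) : Ideal R) := by
    rw [Ideal.radical_eq_sInf, Submodule.mem_sInf]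
    intro (q : Ideal R) (hqq : LinearMap.ker (LinearMap.toSpanSingleton R R (c j)) ≤ q ∧ q.IsPrime)
    obtain ⟨hle, hq⟩ := hqq
    by_contra hf
    obtain ⟨b⟩ := h q hf
    let A := Localization.AtPrime q
    let g : Fin r → LocalizedModule q.primeCompl M := fun i => LocalizedModule.mk (m i) 1
    have hsp : ⊤ ≤ Submodule.span A (Set.range g) := by
      rintro t -
      induction t using LocalizedModule.induction_on with
      | h y s =>
        obtain ⟨_, ⟨n, rfl⟩, hsy⟩ := hm y
        obtain ⟨d, hd⟩ := (Submodule.mem_span_range_iff_exists_fun _).1 hsy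
        have hfn : (f ^ n) ∈ q.primeCompl := fun hmem => hf (hq.mem_of_pow_mem n hmem)
        have hmem : LocalizedModule.mk ((fun n => f ^ n) n • y) (1 : q.primeCompl) ∈
            Submodule.span A (Set.range g) := by
          rw [← hd, ← LocalizedModule.mkLinearMap_apply, map_sum]
          refine Submodule.sum_mem _ fun i _ => ?_
          rw [map_smul]
          exact Submodule.smul_of_tower_mem _ _ (Submodule.subset_span ⟨i, rfl⟩)
        have heq : LocalizedModule.mk y s =
            IsLocalization.mk' A (1 : R) (⟨f ^ n, hfn⟩ * s) •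
              LocalizedModule.mk ((fun n => f ^ n) n • y) (1 : q.primeCompl) := by
          rw [← Localization.mk_eq_mk', LocalizedModule.mk_smul_mk, mul_one, one_smul]
          exact (LocalizedModule.mk_cancel_common_left ⟨f ^ n, hfn⟩ s y).symm
        rw [heq]
        exact Submodule.smul_mem _ _ hmem
    have hli : LinearIndependent A g := by
      let φ : LocalizedModule q.primeCompl M →ₗ[A] LocalizedModule q.primeCompl M :=
        b.constr A g
      have hs : Function.Surjective φ := by
        rw [← LinearMap.range_eq_top, Module.Basis.constr_range]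
        exact top_le_iff.1 hsp
      haveI : Module.Finite A (LocalizedModule q.primeCompl M) := Module.Finite.of_basis b
      have hinj := OrzechProperty.injective_of_surjective_endomorphism φ hs
      have : g = φ ∘ b := funext fun i => (b.constr_basis A g i).symm
      rw [this]
      exact b.linearIndependent.map' φ (LinearMap.ker_eq_bot.2 hinj)
    have h0 : algebraMap R A (c j) = 0 := by
      refine Fintype.linearIndependent_iff.1 hli (fun i => algebraMap R A (c i)) ?_ j
      have h' := congrArg (LocalizedModule.mkLinearMap q.primeCompl M) hc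
      simp only [map_sum, map_smul, map_zero] at h'
      rw [← h']
      exact Finset.sum_congr rfl fun i _ => by rw [algebraMap_smul]; rfl
    obtain ⟨⟨s, hs⟩, hsc⟩ := (IsLocalization.map_eq_zero_iff q.primeCompl A (c j)).1 h0
    exact hs (hle (LinearMap.mem_ker.2 hsc))
  obtain ⟨n, hn⟩ := hrad
  exact ⟨f ^ n, ⟨n, rfl⟩, LinearMap.mem_ker.1 hn⟩

end Groth.Agent.H8Props.FinLocFree
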