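import Groth.Agent.H8Props.FinLocFree.PureClosed
import Mathlib.RingTheory.Spectrum.Prime.FreeLocus

/-!
# Flat finite type modules and closed subsets stable under generalization
-/

set_option autoImplicit false

universe u

open CategoryTheory AlgebraicGeometry TopologicalSpace

namespace Groth.Agent.H8Props.PureClosed

variable {X : Scheme.{u}}

/-- Sections of `ι_* O_Z` over affine opens. -/
theorem exists_quotEquiv (I : X.IdealSheafData) (U : X.affineOpens) :
    Nonempty ((Γ(X, U.1) ⧸ I.ideal U) ≃ₗ[Γ(X, U.1)]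
      Γ((Coh.push I.subschemeι).obj (Coh.structureModule I.subscheme), U.1)) := by
  let φ : Γ(X, U.1) →ₗ[Γ(X, U.1)]
      Γ((Coh.push I.subschemeι).obj (Coh.structureModule I.subscheme), U.1) :=
    { toFun := fun a => (I.subschemeι.app U.1).hom a
      map_add' := fun a b => map_add (I.subschemeι.app U.1).hom a b
      map_smul' := fun a b => map_mul (I.subschemeι.app U.1).hom a b }
  have hs : Function.Surjective φ := I.subschemeι_app_surjective U
  have hk : LinearMap.ker φ = I.ideal U := by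
    rw [← I.ker_subschemeι_app U]
    ext a
    exact Iff.rfl
  exact ⟨(Submodule.quotEquivOfEq _ _ hk.symm).trans (φ.quotKerEquivOfSurjective hs)⟩

theorem isOpen_of_forall (H : ∀ F : X.Modules, Coh.IsQCoh F → CohB1.IsFT F → FlatMod.IsFlat F →
      FlatMod.IsFinLocFree F) (Z : Set X) (hc : IsClosed Z) (hg : StableUnderGeneralization Z) :
    IsOpen Z := by
  classical
  set I := idealSheaf ⟨Z, hc⟩ hg with hI
  let F := (Coh.push I.subschemeι).obj (Coh.structureModule I.subscheme)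
  have hq : F.IsQuasicoherent := @H10Coh.isQuasicoherent_pushforward_of_isAffineHom _ _
    I.subschemeι _ (Coh.structureModule I.subscheme) H10Coh.isQuasicoherent_unit
  have hft : CohB1.IsFT F :=
    (@H10Coh.isFT_isFP_of_affineCover X F hq X.affineOpens (fun U => U.1) (iSup_affineOpens_eq_top X)
      (fun U => U.2) fun U => by
        obtain ⟨e⟩ := exists_quotEquiv I U
        exact Module.Finite.equiv e).1
  have hfl : FlatMod.IsFlat F := fun x => by
    obtain ⟨_, ⟨U, hU : IsAffineOpen U, rfl⟩, hxU, -⟩ :=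
      X.isBasis_affineOpens.exists_subset_of_mem_open (Set.mem_univ x) isOpen_univ
    obtain ⟨e⟩ := exists_quotEquiv I ⟨U, hU⟩
    haveI : Module.Flat Γ(X, U) (Γ(X, U) ⧸ I.ideal ⟨U, hU⟩) := idealAt_pure ⟨Z, hc⟩ hg ⟨U, hU⟩
    exact (FinLocFree.flat_sections_iff F hq hU).1 (Module.Flat.of_linearEquiv e.symm) ⟨x, hxU⟩
  have hlf := H F hq hft hfl
  refine isOpen_iff_forall_mem_open.2 fun x hx => ?_
  obtain ⟨_, ⟨U, hU : IsAffineOpen U, rfl⟩, hxU, -⟩ :=
    X.isBasis_affineOpens.exists_subset_of_mem_open (Set.mem_univ x) isOpen_univ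
  obtain ⟨e⟩ := exists_quotEquiv I ⟨U, hU⟩
  haveI := (FinLocFree.finite_projective_sections F hlf hU).1
  haveI := (FinLocFree.finite_projective_sections F hlf hU).2
  haveI : Module.Projective Γ(X, U) (Γ(X, U) ⧸ I.ideal ⟨U, hU⟩) := .of_equiv e.symm
  haveI : Module.FinitePresentation Γ(X, U) (Γ(X, U) ⧸ I.ideal ⟨U, hU⟩) :=
    Module.finitePresentation_of_projective _ _
  have hfg : (I.ideal ⟨U, hU⟩).FG := by
    have h := Module.FinitePresentation.fg_ker (I.ideal ⟨U, hU⟩).mkQ (Submodule.mkQ_surjective _)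
    rwa [Submodule.ker_mkQ] at h
  haveI := idealAt_pure ⟨Z, hc⟩ hg ⟨U, hU⟩
  obtain ⟨e', he', hspan⟩ := (Ideal.isIdempotentElem_iff_of_fg _ hfg).1
    (@Ideal.isIdempotentElem_of_pure _ _ (I.ideal ⟨U, hU⟩) (idealAt_pure ⟨Z, hc⟩ hg ⟨U, hU⟩))
  have hopen : IsOpen (trace (⟨Z, hc⟩ : Closeds X) ⟨U, hU⟩) := by
    rw [← zeroLocus_idealAt ⟨Z, hc⟩ hg ⟨U, hU⟩,
      show idealAt ⟨Z, hc⟩ hg ⟨U, hU⟩ = Submodule.span Γ(X, U) {e'} from hspan]
    have : PrimeSpectrum.zeroLocus (Submodule.span Γ(X, U) {e'} : Set Γ(X, U)) =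
        PrimeSpectrum.basicOpen (1 - e') := by
      show PrimeSpectrum.zeroLocus (Ideal.span {e'} : Set Γ(X, U)) = _
      rw [PrimeSpectrum.zeroLocus_span]
      ext q
      simp only [PrimeSpectrum.mem_zeroLocus, Set.singleton_subset_iff, SetLike.mem_coe,
        PrimeSpectrum.mem_basicOpen]
      refine ⟨fun h hn => q.isPrime.ne_top ((Ideal.eq_top_iff_one _).2 ?_), fun h => ?_⟩
      · simpa using q.asIdeal.add_mem h hn
      · exact (q.isPrime.mem_or_mem (he'.mul_one_sub_self ▸ q.asIdeal.zero_mem :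
          e' * (1 - e') ∈ q.asIdeal)).resolve_right h
    rw [this]
    exact (PrimeSpectrum.basicOpen _).isOpen
  obtain ⟨q, rfl⟩ := hU.range_fromSpec.ge hxU
  exact ⟨hU.fromSpec '' trace (⟨Z, hc⟩ : Closeds X) ⟨U, hU⟩, Set.image_subset_iff.2 fun _ h => h,
    hU.fromSpec.isOpenEmbedding.isOpenMap _ hopen, q, hx, rfl⟩

theorem isFinLocFree_of_forall (hZ : ∀ Z : Set X, IsClosed Z → StableUnderGeneralization Z → IsOpen Z)
    (F : X.Modules) (hF : Coh.IsQCoh F) (hft : CohB1.IsFT F) (hfl : FlatMod.IsFlat F) :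
    FlatMod.IsFinLocFree F := by
  refine FinLocFree.isFinLocFree_of_rank F hF hft (Or.inr hfl) ?_
  have hopen : ∀ k : ℕ, IsOpen ((Fitt.sheafIdeal F k).support : Set X) := fun k =>
    hZ _ (Fitt.sheafIdeal F k).support.isClosed fun y x hxy hy => by
      obtain ⟨_, ⟨U, hU : IsAffineOpen U, rfl⟩, hyU, -⟩ :=
        X.isBasis_affineOpens.exists_subset_of_mem_open (Set.mem_univ y) isOpen_univ
      have hxU : x ∈ U := hxy.mem_open U.isOpen hyU
      haveI := H29Fitt.finite_sections F hF hft ⟨U, hU⟩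
      haveI := (FinLocFree.flat_sections_iff F hF hU).2 fun z => hfl z.1
      simp only [SetLike.mem_coe] at hy ⊢
      rw [H29Fitt.mem_support_iff F hF hft k hU ⟨y, hyU⟩] at hy
      rw [H29Fitt.mem_support_iff F hF hft k hU ⟨x, hxU⟩]
      by_contra hx
      rw [H29Fitt.not_le_prime_iff_finrank_le] at hx
      have hle : hU.primeIdealOf ⟨x, hxU⟩ ≤ hU.primeIdealOf ⟨y, hyU⟩ := by
        rw [PrimeSpectrum.le_iff_specializes]
        refine hU.fromSpec.isOpenEmbedding.isInducing.specializes_iff.1 ?_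
        show hU.fromSpec (hU.primeIdealOf ⟨x, hxU⟩) ⤳ hU.fromSpec (hU.primeIdealOf ⟨y, hyU⟩)
        rw [hU.fromSpec_primeIdealOf, hU.fromSpec_primeIdealOf]
        exact hxy
      refine (H29Fitt.not_le_prime_iff_finrank_le k (hU.primeIdealOf ⟨y, hyU⟩).asIdeal).2 ?_ hy
      have e1 := Ideal.finrank_fiber_eq_rankAtStalk (M := Γ(F, U)) (hU.primeIdealOf ⟨x, hxU⟩).asIdeal
      have e2 := Ideal.finrank_fiber_eq_rankAtStalk (M := Γ(F, U)) (hU.primeIdealOf ⟨y, hyU⟩).asIdeal
      have e3 := Module.rankAtStalk_eq_of_le_of_finite_of_flat (M := Γ(F, U)) hle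
      exact (e2.trans (e3.symm.trans e1.symm)).le.trans hx
  refine (IsLocallyConstant.iff_exists_open _).2 fun x => ?_
  set d : X → ℕ := fun x => Module.finrank (IsLocalRing.ResidueField (X.presheaf.stalk x))
    (TensorProduct (X.presheaf.stalk x) (IsLocalRing.ResidueField (X.presheaf.stalk x))
      (F.presheaf.stalk x)) with hd
  have hmem : ∀ (k : ℕ) (y : X), y ∈ (Fitt.sheafIdeal F k).support ↔ k < d y := fun k y => by
    obtain ⟨_, ⟨U, hU : IsAffineOpen U, rfl⟩, hyU, -⟩ :=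
      X.isBasis_affineOpens.exists_subset_of_mem_open (Set.mem_univ y) isOpen_univ
    haveI := H29Fitt.finite_sections F hF hft ⟨U, hU⟩
    rw [H29Fitt.mem_support_iff F hF hft k hU ⟨y, hyU⟩, ← not_iff_not,
      H29Fitt.not_le_prime_iff_finrank_le, not_lt,
      show d y = _ from FinLocFree.finrank_stalk_fibre F hF hft hU ⟨y, hyU⟩]
  rcases Nat.eq_zero_or_pos (d x) with h0 | hpos
  · refine ⟨((Fitt.sheafIdeal F 0).support : Set X)ᶜ,
      (Fitt.sheafIdeal F 0).support.isClosed.isOpen_compl, fun h => ?_, fun y hy => ?_⟩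
    · have := (hmem 0 x).1 h; omega
    · have := mt (hmem 0 y).2 hy; show d y = d x; omega
  · refine ⟨((Fitt.sheafIdeal F (d x - 1)).support : Set X) ∩
      ((Fitt.sheafIdeal F (d x)).support : Set X)ᶜ, (hopen _).inter
        (Fitt.sheafIdeal F (d x)).support.isClosed.isOpen_compl,
      ⟨(hmem _ x).2 (by omega), fun h => lt_irrefl _ ((hmem _ x).1 h)⟩, fun y hy => ?_⟩
    have h1 := (hmem _ y).1 hy.1
    have h2 := mt (hmem _ y).2 hy.2
    show d y = d x
    omega

end Groth.Agent.H8Props.PureClosed
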