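import Groth.Agent.H8Props.FinLocFree.Global
import Groth.Agent.H10Coh.BaseChange
import Mathlib.RingTheory.Ideal.Pure
import Mathlib.RingTheory.TensorProduct.Quotient
import Mathlib.RingTheory.Spectrum.Prime.Topology
import Mathlib.AlgebraicGeometry.Morphisms.Flat
import Mathlib.AlgebraicGeometry.Morphisms.ClosedImmersion

/-!
# Closed subsets stable under generalization and flat closed subschemes
-/

set_option autoImplicit false

universe u

open CategoryTheory AlgebraicGeometry TopologicalSpace

namespace Groth.Agent.H8Props.PureClosed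

section Ring

variable {R : Type u} [CommRing R]

/-- A closed subset of `Spec R` stable under generalization is `V(I)` for a pure ideal `I`. -/
theorem exists_pure_zeroLocus_eq (Z : Set (PrimeSpectrum R)) (hc : IsClosed Z)
    (hg : StableUnderGeneralization Z) :
    ∃ I : Ideal R, I.Pure ∧ PrimeSpectrum.zeroLocus (I : Set R) = Z := by
  classical
  let I : Ideal R := ⨅ p ∈ Z, RingHom.ker (algebraMap R (Localization.AtPrime p.asIdeal))
  have hmem : ∀ x, x ∈ I ↔ ∀ p ∈ Z, ∃ s, s ∉ p.asIdeal ∧ s * x = 0 := fun x => by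
    simp only [I, Submodule.mem_iInf, RingHom.mem_ker]
    refine forall₂_congr fun p _ => ?_
    rw [IsLocalization.map_eq_zero_iff p.asIdeal.primeCompl]
    exact ⟨fun ⟨s, hs⟩ => ⟨s, s.2, hs⟩, fun ⟨s, hs, hsx⟩ => ⟨⟨s, hs⟩, hsx⟩⟩
  have hV : PrimeSpectrum.zeroLocus (I : Set R) = Z := by
    refine Set.Subset.antisymm (fun p hp => ?_) fun p hp x hx => ?_
    · by_contra hpZ
      obtain ⟨J, hJ⟩ := (PrimeSpectrum.isClosed_iff_zeroLocus_ideal Z).1 hc
      obtain ⟨j, hjJ, hjp⟩ : ∃ j ∈ J, j ∉ p.asIdeal := by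
        rw [hJ, PrimeSpectrum.mem_zeroLocus, Set.not_subset] at hpZ
        exact hpZ
      have hnil : ∀ q ∈ Z, ∃ s, s ∉ q.asIdeal ∧ ∃ n : ℕ, s * j ^ n = 0 := fun q hq => by
        have h : IsNilpotent (algebraMap R (Localization.AtPrime q.asIdeal) j) := by
          rw [← mem_nilradical, nilradical_eq_sInf, Submodule.mem_sInf]
          intro (r : Ideal (Localization.AtPrime q.asIdeal)) (hr : Ideal.IsPrime r)
          have hle : r.comap (algebraMap R _) ≤ q.asIdeal :=
            ((IsLocalization.AtPrime.orderIsoOfPrime (Localization.AtPrime q.asIdeal) q.asIdeal)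
              ⟨r, hr⟩).2.2
          have hrZ : (⟨r.comap (algebraMap R _), inferInstance⟩ : PrimeSpectrum R) ∈ Z :=
            hg ((PrimeSpectrum.le_iff_specializes _ _).1 hle) hq
          rw [hJ] at hrZ
          exact hrZ hjJ
        obtain ⟨n, hn⟩ := h
        rw [← map_pow, IsLocalization.map_eq_zero_iff q.asIdeal.primeCompl] at hn
        obtain ⟨s, hs⟩ := hn
        exact ⟨s, s.2, n, hs⟩
      choose s hs n hn using hnil
      obtain ⟨t, ht⟩ := hc.isCompact.elim_finite_subcover
        (fun q : Z => (PrimeSpectrum.basicOpen (s q.1 q.2) : Set (PrimeSpectrum R)))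
        (fun q => (PrimeSpectrum.basicOpen _).isOpen)
        (fun q hq => Set.mem_iUnion.2 ⟨⟨q, hq⟩, hs q hq⟩)
      refine hjp (p.isPrime.mem_of_pow_mem (t.sup fun q => n q.1 q.2) (hp ?_))
      refine (hmem _).2 fun q hq => ?_
      obtain ⟨q', hq't, hq'⟩ := Set.mem_iUnion₂.1 (ht hq)
      refine ⟨s q'.1 q'.2, hq', ?_⟩
      rw [← Nat.sub_add_cancel (Finset.le_sup (f := fun q : Z => n q.1 q.2) hq't), pow_add,
        mul_left_comm, hn, mul_zero]
    · obtain ⟨s, hs, hsx⟩ := (hmem x).1 hx p hp
      exact (p.isPrime.mem_or_mem (hsx ▸ p.asIdeal.zero_mem)).resolve_left hs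
  refine ⟨I, Ideal.Pure.of_inf_eq_mul I fun J _ => le_antisymm ?_ Ideal.mul_le_inf, hV⟩
  intro x hx
  obtain ⟨hxI, hxJ⟩ := hx
  have htop : LinearMap.ker (LinearMap.toSpanSingleton R R x) ⊔ I = ⊤ := by
    by_contra hne
    obtain ⟨m, hm, hle⟩ := Ideal.exists_le_maximal _ hne
    have hmZ : (⟨m, hm.isPrime⟩ : PrimeSpectrum R) ∈ Z := by
      rw [← hV]
      exact le_trans le_sup_right hle
    obtain ⟨s, hs, hsx⟩ := (hmem x).1 hxI _ hmZ
    exact hs (hle (Submodule.mem_sup_left (LinearMap.mem_ker.2 hsx)))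
  obtain ⟨a, ha, b, hb, hab⟩ := Submodule.mem_sup.1 (htop ▸ Submodule.mem_top (x := (1 : R)))
  have hxb : x = b * x := by
    calc x = (a + b) * x := by rw [hab, one_mul]
      _ = b * x := by rw [add_mul, show a * x = 0 from LinearMap.mem_ker.1 ha, zero_add]
  rw [hxb]
  exact Ideal.mul_mem_mul hb hxJ

/-- Extensions of pure ideals are pure. -/
theorem pure_map {S : Type u} [CommRing S] [Algebra R S] (I : Ideal R) [I.Pure] :
    (I.map (algebraMap R S)).Pure :=
  Module.Flat.of_linearEquiv (Algebra.TensorProduct.quotIdealMapEquivTensorQuot S I).toLinearEquiv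

end Ring

variable {X : Scheme.{u}}

/-- The trace of `Z` on an affine open. -/
def trace (Z : Closeds X) (U : X.affineOpens) : Set (PrimeSpectrum Γ(X, U.1)) :=
  U.2.fromSpec ⁻¹' (Z : Set X)

theorem isClosed_trace (Z : Closeds X) (U : X.affineOpens) : IsClosed (trace Z U) :=
  Z.isClosed.preimage U.2.fromSpec.continuous

theorem stableUnderGeneralization_trace (Z : Closeds X)
    (hZ : StableUnderGeneralization (Z : Set X)) (U : X.affineOpens) :
    StableUnderGeneralization (trace Z U) :=
  fun _ _ h hx => hZ (h.map U.2.fromSpec.continuous) hx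

/-- The pure ideals attached to a closed subset stable under generalization. -/
noncomputable def idealAt (Z : Closeds X) (hZ : StableUnderGeneralization (Z : Set X))
    (U : X.affineOpens) : Ideal Γ(X, U.1) :=
  (exists_pure_zeroLocus_eq _ (isClosed_trace Z U) (stableUnderGeneralization_trace Z hZ U)).choose

theorem idealAt_pure (Z : Closeds X) (hZ : StableUnderGeneralization (Z : Set X))
    (U : X.affineOpens) : (idealAt Z hZ U).Pure :=
  (exists_pure_zeroLocus_eq _ (isClosed_trace Z U) (stableUnderGeneralization_trace Z hZ U)).choose_spec.1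

theorem zeroLocus_idealAt (Z : Closeds X) (hZ : StableUnderGeneralization (Z : Set X))
    (U : X.affineOpens) :
    PrimeSpectrum.zeroLocus (idealAt Z hZ U : Set Γ(X, U.1)) = trace Z U :=
  (exists_pure_zeroLocus_eq _ (isClosed_trace Z U) (stableUnderGeneralization_trace Z hZ U)).choose_spec.2

theorem idealAt_map (Z : Closeds X) (hZ : StableUnderGeneralization (Z : Set X))
    (U : X.affineOpens) (f : Γ(X, U.1)) :
    (idealAt Z hZ U).map (X.presheaf.map (homOfLE <| X.basicOpen_le f).op).hom =
      idealAt Z hZ (X.affineBasicOpen f) := by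
  letI := (X.presheaf.map (homOfLE <| X.basicOpen_le f).op).hom.toAlgebra
  haveI := idealAt_pure Z hZ U
  haveI := idealAt_pure Z hZ (X.affineBasicOpen f)
  haveI : ((idealAt Z hZ U).map (algebraMap Γ(X, U.1) Γ(X, X.basicOpen f))).Pure := pure_map _
  refine (@Ideal.zeroLocus_inj_of_pure Γ(X, X.basicOpen f) _ _ _ (pure_map _)
    (idealAt_pure Z hZ (X.affineBasicOpen f))).1 ?_
  refine Eq.trans ?_ (zeroLocus_idealAt Z hZ (X.affineBasicOpen f)).symm
  have h := IsAffineOpen.map_fromSpec U.2 (U.2.basicOpen f) (homOfLE (X.basicOpen_le f)).op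
  ext q
  have e : U.2.fromSpec ((Spec.map (X.presheaf.map (homOfLE (X.basicOpen_le f)).op)).base q) =
      (X.affineBasicOpen f).2.fromSpec q := by
    rw [← Scheme.Hom.comp_apply, h]
    rfl
  rw [PrimeSpectrum.mem_zeroLocus, SetLike.coe_subset_coe, Ideal.map_le_iff_le_comap]
  show (Spec.map (X.presheaf.map (homOfLE (X.basicOpen_le f)).op)).base q ∈
    PrimeSpectrum.zeroLocus (idealAt Z hZ U : Set Γ(X, U.1)) ↔ _
  rw [zeroLocus_idealAt]
  show U.2.fromSpec _ ∈ (Z : Set X) ↔ (X.affineBasicOpen f).2.fromSpec q ∈ (Z : Set X)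
  rw [e]

/-- The flat closed subscheme structure on a closed subset stable under generalization. -/
noncomputable def idealSheaf (Z : Closeds X) (hZ : StableUnderGeneralization (Z : Set X)) :
    X.IdealSheafData :=
  Scheme.IdealSheafData.mkOfMemSupportIff (idealAt Z hZ) (idealAt_map Z hZ) Z fun U x hx => by
    obtain ⟨q, rfl⟩ := U.2.range_fromSpec.ge hx
    have h := U.2.fromSpec_preimage_zeroLocus (idealAt Z hZ U : Set Γ(X, U.1))
    rw [zeroLocus_idealAt] at h
    exact (Set.ext_iff.1 h q).symm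

theorem support_idealSheaf (Z : Closeds X) (hZ : StableUnderGeneralization (Z : Set X)) :
    (idealSheaf Z hZ).support = Z := rfl

/-- The closed immersion of `I` is flat iff all its ideals are pure. -/
theorem flat_subschemeι_iff (I : X.IdealSheafData) :
    Flat I.subschemeι ↔ ∀ U : X.affineOpens, (I.ideal U).Pure := by
  have key : ∀ U : X.affineOpens, (I.subschemeι.app U.1).hom.Flat ↔ (I.ideal U).Pure := fun U => by
    rw [I.subschemeι_app U, CommRingCat.hom_comp]
    let e := (I.subschemeObjIso U).commRingCatIsoToRingEquiv.symm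
    refine ⟨fun h => ?_, fun h => ?_⟩
    · have h' := h.comp (RingHom.Flat.of_bijective (f := e.symm.toRingHom) e.symm.bijective)
      rw [← RingHom.comp_assoc] at h'
      have h2 : e.symm.toRingHom.comp (I.subschemeObjIso U).inv.hom = RingHom.id _ :=
        RingHom.ext fun z => e.symm_apply_apply z
      rw [h2, RingHom.id_comp] at h'
      exact RingHom.flat_algebraMap_iff.1 h'
    · exact RingHom.Flat.comp (RingHom.flat_algebraMap_iff.2 h) (RingHom.Flat.of_bijective e.bijective)
  constructor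
  · intro h U
    refine (key U).1 ?_
    rw [Scheme.Hom.app_eq_appLE]
    exact HasRingHomProperty.appLE @Flat I.subschemeι h U ⟨_, U.2.preimage I.subschemeι⟩ le_rfl
  · intro h
    rw [HasRingHomProperty.iff_appLE (P := @Flat)]
    intro U V e
    have hres : ((I.subscheme.presheaf.map (homOfLE e).op).hom).Flat := by
      have h1 := HasRingHomProperty.appLE @Flat (𝟙 I.subscheme) inferInstance
        ⟨_, U.2.preimage I.subschemeι⟩ V e
      rw [Scheme.Hom.appLE, Scheme.Hom.id_app] at h1
      exact h1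
    rw [Scheme.Hom.appLE, CommRingCat.hom_comp]
    exact RingHom.Flat.comp ((key U).2 (h U)) hres

theorem flat_idealSheaf (Z : Closeds X) (hZ : StableUnderGeneralization (Z : Set X)) :
    Flat (idealSheaf Z hZ).subschemeι :=
  (flat_subschemeι_iff _).2 fun U => idealAt_pure Z hZ U

theorem zeroLocus_ideal (I : X.IdealSheafData) (U : X.affineOpens) :
    PrimeSpectrum.zeroLocus (I.ideal U : Set Γ(X, U.1)) = trace I.support U := by
  rw [← U.2.fromSpec_preimage_zeroLocus (I.ideal U : Set Γ(X, U.1))]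
  ext q
  have hq : U.2.fromSpec q ∈ U.1 := U.2.range_fromSpec.subset ⟨q, rfl⟩
  exact ⟨fun h => ((Set.ext_iff.1 (I.coe_support_inter U) _).2 ⟨h, hq⟩).1,
    fun h => ((Set.ext_iff.1 (I.coe_support_inter U) _).1 ⟨h, hq⟩).1⟩

theorem stableUnderGeneralization_support (I : X.IdealSheafData) [Flat I.subschemeι] :
    StableUnderGeneralization (I.support : Set X) := by
  rw [← I.range_subschemeι]
  exact (Flat.generalizingMap I.subschemeι).stableUnderGeneralization_range

theorem ext_of_flat {I J : X.IdealSheafData} (hI : Flat I.subschemeι) (hJ : Flat J.subschemeι)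
    (h : I.support = J.support) : I = J := by
  refine Scheme.IdealSheafData.ext (funext fun U => ?_)
  haveI := (flat_subschemeι_iff I).1 hI U
  haveI := (flat_subschemeι_iff J).1 hJ U
  exact Ideal.zeroLocus_inj_of_pure.1 (by rw [zeroLocus_ideal, zeroLocus_ideal, h])

theorem le_ker_of_range_subset (I : X.IdealSheafData) (hI : Flat I.subschemeι) {Y : Scheme.{u}}
    (g : Y ⟶ X) (hg : Set.range g.base ⊆ (I.support : Set X)) : I ≤ g.ker := by
  refine Scheme.IdealSheafData.le_ofIdeals_iff.2 fun U a ha => ?_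
  haveI := (flat_subschemeι_iff I).1 hI U
  obtain ⟨b, hb, hab⟩ := Ideal.exists_eq_mul_of_pure ha
  refine RingHom.mem_ker.2 ?_
  refine TopCat.Presheaf.section_ext Y.sheaf _ _ _ fun y hy => ?_
  show Y.presheaf.germ _ y hy _ = Y.presheaf.germ _ y hy 0
  rw [map_zero]
  have hu : IsUnit (X.presheaf.germ U.1 (g y) hy (1 - b)) := by
    rw [map_sub, map_one]
    refine IsLocalRing.isUnit_one_sub_self_of_mem_nonunits _ fun hu => ?_
    have hmem : g y ∈ X.zeroLocus (U := U.1) (I.ideal U : Set Γ(X, U.1)) :=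
      ((Set.ext_iff.1 (I.coe_support_inter U) _).1 ⟨hg ⟨y, rfl⟩, hy⟩).1
    exact (Scheme.mem_zeroLocus_iff _ _ _).1 hmem b hb ((X.mem_basicOpen b (g y) hy).2 hu)
  have h0 : X.presheaf.germ U.1 (g y) hy a * X.presheaf.germ U.1 (g y) hy (1 - b) = 0 := by
    rw [← map_mul, mul_sub, mul_one, ← hab, sub_self, map_zero]
  rw [hu.mul_left_eq_zero] at h0
  show Y.presheaf.germ _ y hy (g.app U.1 a) = 0
  rw [← CommRingCat.comp_apply, ← Scheme.Hom.germ_stalkMap, CommRingCat.comp_apply, h0, map_zero]

end Groth.Agent.H8Props.PureClosed
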